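import Cfsg.Agent.Lib.Bab.SC

/-! # Simple connectivity of the graph of the conjugates of `z` in the Monster -/

set_option autoImplicit false

namespace Cfsg.Lib.Bab

open Finset Griess Subgroup MulAction Cfsg.Lib.Mon Cfsg.Lib.Deg Cfsg.Lib.M3 Matrix Relation
open Spor hiding tau
open Leech hiding vW

section
variable {G X Γ : Type*} [Group G] [Group Γ] [MulAction G X] {G0 : Subgroup G} {x0 x1 : X} {φ : Γ →* G}
  {H : Subgroup Γ} {σ : Γ}

/-- The tetrahedron relation for the monodromy around a triangle. -/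
theorem tetra (A : Amal G0 x0 x1 φ H σ) {t ρ y n : Γ} (t1 : σ⁻¹ * t ∈ H) (t3 : t ^ 3 ∈ H) (h1 : σ⁻¹ * ρ ∈ H)
    (hy : y ∈ H) (hn : φ n = 1) (h3 : n⁻¹ * ρ ^ 3 ∈ H) (y1 : φ y • x1 = φ ρ • x1) (y2 : φ y • φ y • x1 = φ ρ • φ t • x1)
    (y3 : φ y • φ y • φ y • x1 = x1) : n * (y * n * y⁻¹) * (y * (y * n * y⁻¹) * y⁻¹) = 1 := by
  have r : ∀ γ : Γ, A.cov.R γ (γ * ρ : Γ) := fun γ => ⟨γ, rfl, QuotientGroup.eq.2 (by
    simpa [mul_assoc] using inv_mem h1)⟩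
  have e : φ ρ • x0 = x1 := by
    have := A.fix _ h1
    rwa [map_mul, mul_smul, map_inv, inv_smul_eq_iff, A.s0] at this
  have mk : ∀ γ δ : Γ, γ • (δ : Γ ⧸ H) = (γ * δ : Γ) := fun _ _ => rfl
  have y0 : y • ((1 : Γ) : Γ ⧸ H) = (1 : Γ) := QuotientGroup.eq.2 (by simpa using hy)
  have r0 : A.cov.R (1 : Γ) ρ := by simpa using r 1
  have r1 : A.cov.R (1 : Γ) (y • ρ) := y0 ▸ A.R_smul y r0
  have r2 : A.cov.R (1 : Γ) (y • y • ρ) := y0 ▸ A.R_smul y r1
  have e3 : y • y • y • (ρ : Γ ⧸ H) = ρ := A.cov.uniq (y0 ▸ A.R_smul y r2) r0 (by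
    simp only [A.p_smul, A.p_mk, e, y3])
  have s1 : A.cov.R ρ (n • y • ρ) := by
    have a := A.cov.symm (r (ρ * ρ))
    rw [show ((ρ * ρ * ρ : Γ) : Γ ⧸ H) = n • ((1 : Γ) : Γ ⧸ H) from
      (QuotientGroup.eq.2 (by simpa [pow_succ] using h3)).symm] at a
    rw [← A.cov.uniq a (A.R_smul n r1) (by simp only [A.p_smul, A.p_mk, e, hn, one_smul, map_mul, mul_smul, y1])]
    exact r ρ
  have s2 : A.cov.R (y • ρ) ((y * n * y⁻¹) • y • y • ρ) := by
    simpa only [mul_smul, inv_smul_smul] using A.R_smul y s1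
  have s3 : A.cov.R (y • y • ρ) ((y * (y * n * y⁻¹) * y⁻¹) • ρ) := by
    have := A.R_smul y s2
    rwa [mul_smul, mul_smul, (inv_smul_eq_iff.2 e3.symm : y⁻¹ • (ρ : Γ ⧸ H) = _)]
  have hn' : φ (y * n * y⁻¹) = 1 := by simp [hn]
  have hn'' : φ (y * (y * n * y⁻¹) * y⁻¹) = 1 := by simp [hn]
  generalize y * (y * n * y⁻¹) * y⁻¹ = n'' at s3 hn'' ⊢
  generalize y * n * y⁻¹ = n' at s2 hn' ⊢
  have L := (A.lifts t1 t3 (A.mem ρ)).rot (by
    obtain ⟨γ, a, b⟩ := A.cov.symm s3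
    replace a := congrArg A.cov.p a
    replace b := congrArg A.cov.p b
    simp only [A.p_smul, A.p_mk, e, hn'', one_smul, y2, map_mul, mul_smul, A.s0] at a b
    exact ⟨_, A.mem γ, by rw [e, ← a], b.symm⟩)
  have s4 := A.R_smul n s2
  have s5 := A.R_smul (n * n') s3
  have s6 := L _ _ _ (by simp only [A.p_smul, A.p_mk, e, hn, one_smul, y1]) (by rw [A.p_mk]) (by
    simp only [A.p_smul, A.p_mk, e, hn, hn', one_smul, y2]) (A.cov.symm s1) s4
  rw [mul_smul] at s5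
  have := A.cov.uniq (A.cov.symm s6) s5 (by simp only [A.p_smul, map_mul, hn, hn', hn'', one_smul, mul_one])
  rw [smul_smul, mk, QuotientGroup.eq] at this
  have k := A.inj _ this (by simp [hn, hn', hn''])
  rwa [inv_mul_eq_one, eq_comm, mul_eq_right] at k

end

variable {x : Q} {z : Iv}

theorem tri_NV (h0 : U0 (piQ x)) (h1 : ¬ Short x) (h2 : x.c ≠ 0) : ∃ n ∈ NV, n * bq dT * n⁻¹ = qV x := by
  obtain ⟨s, d, δ, rfl⟩ := qe_surj x
  obtain ⟨r, rfl⟩ : ∃ r : ZMod 2, d = r • Om := (u0_piQ.1 h0).1.elim (fun e => ⟨0, by simpa using e⟩) fun e => ⟨1, by simpa using e⟩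
  have ev : δ ⬝ᵥ 1 = 0 := by simpa [dotProduct_comm] using (u0_piQ.1 h0).2
  obtain ⟨i, j, k, l, hij, hkl, h⟩ := exists_pairs ev
  have key : ∀ a b, e1 i + e1 j + δ + (e1 k + e1 l) = δ + (e1 a + e1 b) → False := fun a b e => by
    rw [e] at h
    by_cases c : a = b
    · exact h2 (cs_eq_zero.2 (by simpa [c, w_add_self] using h))
    · exact h1 (short_qe c h s r)
  have n : [i, j, k, l].Nodup := by
    have a : i ≠ k := fun e => key j l (by subst e; funext p; simp only [Pi.add_apply]; grind)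
    have b : i ≠ l := fun e => key j k (by subst e; funext p; simp only [Pi.add_apply]; grind)
    have c : j ≠ k := fun e => key i l (by subst e; funext p; simp only [Pi.add_apply]; grind)
    have d : j ≠ l := fun e => key i k (by subst e; funext p; simp only [Pi.add_apply]; grind)
    simp [a, b, c, d, hij, hkl]
  obtain ⟨σ, e⟩ := exists_perm (l := [pI, pJ, pK, pL]) (by decide) n
  simp only [List.map_cons, List.map_nil, List.cons.injEq, and_true] at e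
  have e' : sW σ dT + δ ∈ golayCode := by
    simp only [sW_add, sW_e1, e.1, e.2.1, e.2.2.1, e.2.2.2]; rwa [add_right_comm]
  obtain ⟨d, hd⟩ := not_forall.1 (mt eq_zero_of_pr_right h2)
  have hd : (d : W) ⬝ᵥ sW σ dT = 1 := by
    have := dot_code d ⟨_, e'⟩
    rw [dotProduct_add, ← z2_eq_iff] at this
    simpa [this] using (z2_cases _).resolve_left hd
  refine ⟨xq 0 (s • d) * yq 0 (r • d) * xp σ, mul_mem (mul_mem (xq_mem _ _) (yq_mem _ _)) (xp_mem _), ?_⟩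
  rw [conj_even dT_even]
  exact congrArg qV (qe_eq_iff.2 ⟨by simp [hd], by simp [hd], e'⟩)

theorem tri_casesM (h : Ad o z) (h' : Ad (tau • o) z) : z = ⟨zA * wA⟩ ∨ ∃ n ∈ NV, z = n • ⟨bq dT⟩ := by
  have nb {z} (h : Ad o z) : ∃ x, z = ⟨qV x⟩ ∧ ∃ c, c * wA * c⁻¹ = qV x := by
    obtain ⟨c, -, e, rfl⟩ := h
    obtain ⟨x, e1, -⟩ := exists_conj (smul_o.1 e) aOm
    exact ⟨x, by rw [tau_o, M3.smul_mk, e1], c, e1⟩
  have ir (z) : ¬ Ad z z := fun ⟨g, _, a, b⟩ => w_ne_z (Iv.mk.inj (tau_o.symm.trans (smul_left_cancel g (b.trans a.symm))))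
  obtain ⟨x, rfl, c, e⟩ := nb h
  obtain ⟨y, e1, -⟩ := nb (by simpa using h'.smul (inv_mem tau_mem_M1))
  have h0 : U0 (piQ x) := u0_iff.2 ⟨y, by rw [← Iv.mk.inj e1]; group⟩
  have h2 : IsConj zA (qV x) := isConj_w.trans (isConj_iff.2 ⟨_, e⟩)
  by_cases k : x.c = 0
  swap
  · exact .inr (let ⟨n, a, b⟩ := tri_NV h0 (not_isConj · h2) k; ⟨n, a, congrArg Iv.mk b.symm⟩)
  rcases (u0_piQ.1 h0).1 with l | l
  · rcases piQ_eq_zero ((piQ_congr (y := 1) l k).trans piQ_one) with rfl | rfl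
    · exact (zQ_ne_one (qV_injective ((isConj_one_right.1 (map_one qV ▸ h2.symm :)).trans (map_one qV).symm))).elim
    · exact (ir _ h).elim
  · rcases piQ_eq_iff.1 (piQ_congr (y := aOm) l k) with rfl | rfl
    · exact (ir _ (tau_o ▸ h')).elim
    · exact .inl (by rw [map_mul])

/-- A group with the amalgam of the Monster in which the two triangles lift is the Monster. -/
theorem scM {Γ : Type*} [Group Γ] {φ : Γ →* Aut} {H : Subgroup Γ} {σ ρ ρ' : Γ} (A : Amal M1 o (tau • o) φ H σ)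
    (h1 : σ⁻¹ * ρ ∈ H) (h2 : φ ρ * wA * (φ ρ)⁻¹ = zA * wA) (h3 : ρ ^ 3 ∈ H) (h1' : σ⁻¹ * ρ' ∈ H)
    (h2' : φ ρ' * wA * (φ ρ')⁻¹ = qV x) (hx : x.c ≠ 0) (hx' : U0 (piQ x)) (h3' : ρ' ^ 3 ∈ H) :
    Function.Injective φ ∧ φ.range = M1 := by
  have e : ∀ {g u : Aut}, g * wA * g⁻¹ = u → g • tau • o = ⟨u⟩ := fun e => by rw [tau_o, M3.smul_mk, e]
  obtain ⟨m, hm, e'⟩ := tri_NV hx' (not_isConj · (isConj_w.trans (isConj_iff.2 ⟨_, h2'⟩))) hx
  have T : A.cov.Tri (RS · []) := by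
    rintro _ _ w - - - ⟨g, hg, rfl, rfl⟩ a b
    rcases tri_casesM (z := g⁻¹ • w) (by simpa using a.smul (inv_mem hg)) (by simpa using b.smul (inv_mem hg)) with k | ⟨n, hn, k⟩
    · have := A.lifts h1 h3 hg
      rwa [e h2, ← k, smul_inv_smul] at this
    · have hn := mul_mem hn (inv_mem hm)
      have := A.lifts h1' h3' (mul_mem hg (CZ_le_M1 (NV_le hn)))
      rwa [e h2', mul_smul g, mul_smul g, mul_smul g, ← e', ← M3.smul_mk, mul_smul n _ (m • _), inv_smul_smul, ← k, smul_inv_smul,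
        smul_o.2 (NV_le hn), (e (mul_inv_eq_iff_eq_mul.2 (mem_NV.1 hn).2)).trans tau_o.symm] at this
  obtain ⟨-, s, hs, e0⟩ := exists_sec (C := ⟨A.cov.p, A.cov.R, A.cov.symm, fun a y ⟨g, h, k⟩ => A.cov.ex a y ⟨g, h.1, k⟩, A.cov.uniq⟩)
    (a := (1 : Γ)) (fun a b c u v w f g h => T a b c u.tail v.tail w.tail ((adB_iff u v).2 f) ((adB_iff u w).2 g) ((adB_iff v w).2 h))
    (by simp [A.p_mk])
  obtain ⟨s', a, b⟩ := Cov.morse (morse_nil (mem_orbit_ax short_t)) T (s0 := s)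
    ⟨fun u h => hs.1 u ((ht_zero short_t h.1).1 h.2), fun u v f g h => let f := (ht_zero short_t f.1).1 f.2
      let g := (ht_zero short_t g.1).1 g.2; hs.2 u v f g ((adB_iff f g).1 h)⟩
  exact amal_of_sec (S := (RS · [])) A (fun _ h _ k => RS.smul k h) vb_o.tail conn_nil a ((b _ ((ht_zero short_t vb_o.tail).2 vb_o)).trans e0)

end Cfsg.Lib.Bab
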