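import Cfsg.Agent.Lib.MA.D3
import Cfsg.Agent.Lib.MA.E1
import Cfsg.Agent.Lib.MA.SC
import Cfsg.Agent.Lib.M3.W2

/-! # A group generated by an amalgam of Monster type is the Monster -/

set_option autoImplicit false

namespace Cfsg.Lib.Griess.MA

open Matrix Subgroup MulAction Cfsg.Lib.Leech Cfsg.Lib.Mon Cfsg.Spor Function Cfsg.Lib.M3

/-- the automorphism group of the Griess algebra -/
noncomputable abbrev mA : AQ where
  G := Griess.Aut
  C := Griess.CZ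
  q := Griess.qV
  inj := Griess.qV_injective
  mem := Griess.qV_mem
  ρ := Griess.rhoC
  surj := Griess.xd.surj
  ker _ := Griess.rhoC_eq_one
  conj g x := (exists_co1 g).choose_spec x

/-- its triality element -/
noncomputable abbrev mN : @MN mA :=
  @MN.mk mA Griess.tau Griess.tau_pow_three Griess.tau_conj_zQ Griess.tau_conj_w (fun _ => Griess.tau_conj_bq)
    (Griess.bq_e1_tau none) fun _ => Griess.tau_conj_mem

variable [AQ] {A : Type} [Group A] {N L : Subgroup Aut}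

theorem isoM' (D : Am A CZ N L) (hs : im D.PP = signs) (hg : CZ ⊔ N ⊔ L = ⊤) : IsoM Aut := by
  obtain ⟨-, x, xL, sw⟩ := D.exists_sw hs
  obtain ⟨T, tN⟩ := sw.exists_MN
  obtain ⟨u, u0, u1, ⟨l, lL, l1, l2, l3⟩, y, yL, y1, y2, y3⟩ := D.exists_l hs
  obtain ⟨H, h⟩ := exists_HH (S := mN)
  have nz {g} (e : g * zA * g⁻¹ = wA) (k : g ∈ CZ) : False := zero_ne_one (congrArg Q.s (qV_injective (e.symm.trans (conj_z k))))
  have cz {g k} (e : g * zA * g⁻¹ = wA) (f : k * zA * k⁻¹ = wA) : g⁻¹ * k * zA = zA * (g⁻¹ * k) := by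
    rw [mul_assoc, mul_inv_eq_iff_eq_mul.1 f, ← e]; group
  obtain ⟨c, hc, c2⟩ := h.sur2 (mul_mem (sw.cz _ (mul_mem (inv_mem tN) sw.mem) (cz tau_conj_zQ sw.xz))
    (D.cen_L hs (mul_mem (inv_mem xL) lL) (cz sw.xz l1)))
  have e : (tD mN * c).2 = l := by simp [c2, tD]
  obtain ⟨Y, hY, rfl⟩ := h.sur2 (D.cen_L hs yL (mul_inv_eq_iff_eq_mul.1 y1))
  obtain ⟨u2, n, n1, n2, n3⟩ := h.tri hc (e ▸ l2) (e ▸ l3) (fun _ => mem_CZc.2) (e ▸ D.cen_L hs (pow_mem lL 3) (by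
    rw [← mul_inv_eq_iff_eq_mul]
    conv_rhs => rw [← l3, ← l2, ← l1]
    simp only [pow_three, _root_.mul_inv_rev, mul_assoc]))
  let b := qD mA (qe 0 0 (e1 none))
  let Γ := H ⊔ zpowers (tD mN * b)
  have le : H ≤ Γ := le_sup_left
  have ms : tD mN * b ∈ Γ := mem_sup_right (mem_zpowers _)
  have mt : tD mN ∈ Γ := (mul_mem_cancel_right (le (h.q _))).1 ms
  have mr : tD mN * c ∈ Γ := mul_mem mt (le hc)
  have mn : n ∈ Γ := inv_mem_iff.1 ((mul_mem_cancel_right (pow_mem mr 3)).1 (le n3))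
  let φ : Γ →* Griess.Aut := (MonoidHom.fst _ _).comp Γ.subtype
  have A : Amal M1 o (Griess.tau • o) φ (H.subgroupOf Γ) ⟨_, ms⟩ :=
    { mem γ := (sup_le (fun _ k => CZ_le_M1 (DD_fst (h.le k))) (zpowers_le.2 (mul_mem tau_mem_M1 (CZ_le_M1 (Griess.qV_mem _)))) :
        Γ ≤ M1.comap (MonoidHom.fst _ _)) γ.2
      fix _ k := smul_o.2 (DD_fst (h.le k))
      sur _ _ k := let ⟨p, a, b⟩ := h.sur1 (smul_o.1 k); ⟨⟨p, le a⟩, a, b⟩
      inj _ k e := Subtype.ext (h.fst_inj k e)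
      s0 := (mul_smul _ _ _).trans (congrArg _ (smul_o.2 (Griess.qV_mem _)))
      sq := show tD mN * b * (tD mN * b) ∈ H by
        rw [mul_assoc, ← mul_assoc b, b_tD, mul_inv_cancel]; exact one_mem H
      nor p k e := show (tD mN * b)⁻¹ * p * (tD mN * b) ∈ H by
        rw [Bab.tau_o] at e
        simpa [mul_assoc] using mul_mem (mul_mem (inv_mem (h.q _)) (h.nh (NH_t' (h.mem_NH k (mem_NV.2 ⟨DD_snd (h.le k),
          mul_inv_eq_iff_eq_mul.1 (congrArg Prod.snd (conj_D1 (h.le k) (Iv.mk.inj e)))⟩))))) (h.q (qe 0 0 (e1 none)))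
      gen := map_injective Γ.subtype_injective (by
        rw [Subgroup.map_sup, subgroupOf_map_subtype, MonoidHom.map_zpowers, ← MonoidHom.range_eq_map, range_subtype, inf_eq_left.2 le]
        rfl) }
  have t1 : (⟨_, ms⟩⁻¹ * ⟨_, mt⟩ : Γ) ∈ H.subgroupOf Γ := show (tD mN * b)⁻¹ * tD mN ∈ H by simpa using h.q _
  have t3 : (⟨_, mt⟩ ^ 3 : Γ) ∈ H.subgroupOf Γ := show tD mN ^ 3 ∈ H from tD_pow mN ▸ one_mem H
  have r1 : (⟨_, ms⟩⁻¹ * ⟨_, mr⟩ : Γ) ∈ H.subgroupOf Γ := show (tD mN * b)⁻¹ * (tD mN * c) ∈ H by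
    simpa [mul_assoc] using mul_mem (inv_mem (h.q _)) hc
  have r0 := congrArg Prod.fst (conj_tc (S := mN) (h.le hc) (e ▸ l1))
  have r2 := congrArg Prod.fst (conj_tc (S := mN) (h.le hc) (e ▸ l2))
  have Y2 := conj_D2 (h.le hY) y2
  have Y3 := conj_D2 (h.le hY) (y3.trans (map_mul qV _ _).symm)
  have cu : qV u * wA = wA * qV u := by rw [← l2, ← l1, _root_.conj_mul, _root_.conj_mul, l1, NV_z wA_mem]
  have uu : qV u * qV u = 1 := by rw [← l2, _root_.conj_mul, wA_mul_self, mul_one, mul_inv_cancel]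
  have y4 : Y.2 * (wA * qV u) * Y.2⁻¹ = wA := by rw [← _root_.conj_mul, y2, y3, ← cu, ← mul_assoc, uu, one_mul]
  have Y4 := conj_D2 (h.le hY) (map_mul qV _ _ ▸ y4 : Y.2 * qV (aOm * u) * _ = _)
  have k := congrArg (·.1.2) (Bab.tetra A (y := ⟨Y, le hY⟩) (n := ⟨n, mn⟩) t1 t3 r1 hY n1 n3
    (Bab.tau_o ▸ congrArg Iv.mk ((congrArg Prod.fst Y2).trans r2.symm)) (Bab.tau_o ▸ congrArg Iv.mk (by
      refine .trans (congrArg (fun t : _ × _ => Y.1 * t.1 * Y.1⁻¹) Y2) ((congrArg Prod.fst Y3).trans ?_)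
      exact (map_mul _ _ _).trans ((congrArg₂ _ r0 r2).symm.trans (_root_.conj_mul.trans
        (congrArg (fun t => (tD mN * c).1 * t * (tD mN * c).1⁻¹) Griess.tau_conj_w.symm)))))
    (Bab.tau_o ▸ congrArg Iv.mk (congrArg Prod.fst (show Y * (Y * (Y * qD mA aOm * Y⁻¹) * Y⁻¹) * Y⁻¹ = qD mA aOm by rw [Y2, Y3, Y4]))))
  change n.2 * (Y.2 * n.2 * Y.2⁻¹) * (Y.2 * (Y.2 * n.2 * Y.2⁻¹) * Y.2⁻¹) = 1 at k
  obtain rfl : n = 1 := Prod.ext n1 (n2.resolve_right fun f => z_ne (by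
    rw [f, mul_assoc zA, ← _root_.conj_mul, y1, y4, ← _root_.conj_mul, y1, y2] at k
    simpa only [mul_assoc, (show Commute wA zA from NV_z wA_mem).left_comm, (show Commute (qV u) zA from comm_z (qV_mem u)).left_comm,
      (show Commute (qV u) wA from cu).left_comm, uu, mul_one, wA_mul_self, zA_mul_self] using k))
  obtain ⟨i, r⟩ := Bab.scM A t1 Griess.tau_conj_w t3 r1 r2 (fun f => (u0_piQ.1 u2).1.elim
    (fun g => u0 ((piQ_congr (y := 1) g f).trans piQ_one)) fun g => u1 (piQ_congr g f)) u2 (mem_subgroupOf.2 (by simpa using n3))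
  let ψ : Γ →* Aut := (MonoidHom.snd _ _).comp Γ.subtype
  have C : CZ ≤ ψ.range := fun g a => let ⟨p, a, b⟩ := h.sur2 a; ⟨⟨p, le a⟩, b⟩
  have s : ψ.range = ⊤ := top_le_iff.1 (hg.ge.trans (sup_le (sup_le C
    ((le_or_le Nat.prime_three D.hNC (inf_le_left.trans C)).resolve_right fun f => nz tau_conj_zQ (f ⟨⟨⟨_, mt⟩, rfl⟩, tN⟩)))
    ((le_or_le (by norm_num) D.hLC (inf_le_left.trans C)).resolve_right fun f => nz l1 (f ⟨⟨⟨_, mr⟩, e⟩, lL⟩))))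
  let ε := (MonoidHom.ofInjective i).trans (MulEquiv.subgroupCongr r)
  have := ε.isSimpleGroup
  refine ⟨(MulEquiv.ofBijective ψ ⟨(ψ.ker_eq_bot_iff).1 ((Normal.eq_bot_or_eq_top (H := ψ.ker) inferInstance).resolve_right
    fun k => ?_), MonoidHom.range_eq_top.1 s⟩).symm.trans (ε.trans eM)⟩
  exact z_ne (k.ge (mem_top ⟨_, le (h.q zQ)⟩))

theorem isoM (D : Am A CZ N L) (hg : CZ ⊔ N ⊔ L = ⊤) : IsoM Aut := by
  obtain ⟨a, h⟩ := D.exists_signs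
  obtain ⟨c, rfl⟩ := (AQ.surj : Surjective rhoC) a
  have e (p : CZ) : rhoC (c⁻¹⁻¹ * p * c⁻¹⁻¹⁻¹) = rhoC c * rhoC p * (rhoC c)⁻¹ := by simp
  refine @isoM' (AQ.chg _ c⁻¹) _ _ _ _ D (Subgroup.ext fun t => ⟨?_, fun k => ?_⟩) hg
  · rintro ⟨p, a, rfl⟩
    exact (e p).symm ▸ (h _).1 ⟨p, a, rfl⟩
  · obtain ⟨p, a, b⟩ := (h ((rhoC c)⁻¹ * t * rhoC c)).2 (by simpa [mul_assoc] using k)
    exact ⟨p, a, (e p).trans (by simp [b, mul_assoc])⟩

end Cfsg.Lib.Griess.MA
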